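import Groth.Agent.STCILib.Smooth
import Mathlib

/-! Passing to an infinite residue field without changing lengths. -/

set_option autoImplicit false

open IsLocalRing Polynomial TensorProduct

namespace Groth.Agent.MultLib

universe u

theorem exists_infinite_residue (A : Type u) [CommRing A] [IsNoetherianRing A] [IsLocalRing A] :
    ∃ (B : Type u) (_ : CommRing B) (_ : IsNoetherianRing B) (_ : IsLocalRing B) (_ : Algebra A B),
      Infinite (ResidueField B) ∧ (maximalIdeal A).map (algebraMap A B) = maximalIdeal B ∧
      ∀ I : Ideal A, IsFiniteLength A (A ⧸ I) →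
        Module.length B (B ⧸ I.map (algebraMap A B)) = Module.length A (A ⧸ I) := by
  let P : Ideal A[X] := (maximalIdeal A).map C
  haveI hP : P.IsPrime := Ideal.isPrime_map_C_of_isPrime
  let B := Localization.AtPrime P
  haveI : Module.Flat A[X] B := IsLocalization.flat B P.primeCompl
  haveI : Module.Flat A B := Module.Flat.trans A A[X] B
  have hmap : (maximalIdeal A).map (algebraMap A B) = maximalIdeal B := by
    rw [IsScalarTower.algebraMap_eq A A[X] B, ← Ideal.map_map, Polynomial.algebraMap_eq]
    exact Localization.AtPrime.map_eq_maximalIdeal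
  refine ⟨B, inferInstance, inferInstance, inferInstance, inferInstance, ?_, hmap, fun I hI => ?_⟩
  · refine Infinite.of_injective (fun n : ℕ => IsLocalRing.residue B (algebraMap A[X] B (X ^ n))) fun i j hij => ?_
    by_contra hne
    have h1 : algebraMap A[X] B (X ^ i - X ^ j) ∈ maximalIdeal B := by
      rw [← residue_eq_zero_iff, map_sub, map_sub, sub_eq_zero]; exact hij
    rw [IsLocalization.AtPrime.to_map_mem_maximal_iff B P] at h1
    have h2 := Ideal.mem_map_C_iff.mp h1 i
    rw [coeff_sub, coeff_X_pow_self, coeff_X_pow, if_neg hne, sub_zero] at h2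
    exact (maximalIdeal.isMaximal A).ne_top ((Ideal.eq_top_iff_one _).mpr h2)
  · rw [← (Algebra.TensorProduct.quotIdealMapEquivTensorQuot B I).symm.toLinearEquiv.length_eq,
      STCILib.length_baseChange' (B := B) hI,
      show Module.length B (B ⊗[A] ResidueField A) = 1 from ?_, mul_one]
    show Module.length B (B ⊗[A] (A ⧸ maximalIdeal A)) = 1
    rw [← (Algebra.TensorProduct.quotIdealMapEquivTensorQuot B (maximalIdeal A)).toLinearEquiv.length_eq, hmap]
    haveI : IsSimpleModule B (B ⧸ maximalIdeal B) := isSimpleModule_iff_isCoatom.mpr (maximalIdeal.isMaximal B).out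
    exact Module.length_eq_one B (B ⧸ maximalIdeal B)

end Groth.Agent.MultLib
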