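import Mathlib

/-! Superficial elements of a local ring with infinite residue field. -/

set_option autoImplicit false
set_option maxHeartbeats 1000000
set_option synthInstance.maxHeartbeats 200000

open IsLocalRing Polynomial

namespace Groth.Agent.MultLib

universe u

variable {A : Type u} [CommRing A] [IsLocalRing A]

/-- Finitely many proper submodules containing `m E` do not cover `E`. -/
theorem exists_notMem_of_infinite [Infinite (ResidueField A)] {E : Type u} [AddCommGroup E] [Module A E]
    {ι : Type*} (s : Finset ι) (V : ι → Submodule A E) (hne : ∀ i ∈ s, V i ≠ ⊤)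
    (hm : ∀ i ∈ s, maximalIdeal A • (⊤ : Submodule A E) ≤ V i) : ∃ e : E, ∀ i ∈ s, e ∉ V i := by
  classical
  induction s using Finset.induction_on with
  | empty => exact ⟨0, by simp⟩
  | insert i₀ s hi₀ ih =>
    obtain ⟨e, he⟩ := ih (fun i hi => hne i (Finset.mem_insert_of_mem hi)) (fun i hi => hm i (Finset.mem_insert_of_mem hi))
    by_cases hei : e ∈ V i₀
    swap
    · exact ⟨e, by simpa [hei] using he⟩
    obtain ⟨y, hy⟩ : ∃ y, y ∉ V i₀ := by
      by_contra hc
      simp only [not_exists, not_not] at hc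
      exact hne i₀ (Finset.mem_insert_self i₀ s) (eq_top_iff.mpr fun z _ => hc z)
    -- each member excludes at most one residue class of coefficients
    by_contra hcov
    simp only [not_exists, not_forall, not_not] at hcov
    have hlift : ∀ c : ResidueField A, ∃ a : A, residue A a = c := residue_surjective
    choose a ha using hlift
    have hf : ∀ c : ResidueField A, c ≠ 0 → ∃ i ∈ s, y + a c • e ∈ V i ∧ e ∉ V i := by
      intro c hc
      obtain ⟨i, hi, hmem⟩ := hcov (y + a c • e)
      rcases Finset.mem_insert.mp hi with rfl | his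
      · exact absurd ((Submodule.add_mem_iff_left _ (Submodule.smul_mem _ _ hei)).mp hmem) hy
      · exact ⟨i, his, hmem, he i his⟩
    choose f hfs hfm hfe using hf
    have hfin : Finite ↥{c : ResidueField A | c ≠ 0} := by
      refine Finite.of_injective (fun c => (⟨f c.1 c.2, hfs c.1 c.2⟩ : s)) fun c d hcd => ?_
      have hcd' : f c.1 c.2 = f d.1 d.2 := congrArg Subtype.val hcd
      by_contra hne'
      have h1 := sub_mem (hfm c.1 c.2) (hcd' ▸ hfm d.1 d.2)
      rw [add_sub_add_left_eq_sub, ← sub_smul] at h1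
      have hu : IsUnit (a c.1 - a d.1) := by
        rw [← residue_ne_zero_iff_isUnit, map_sub, ha, ha, sub_ne_zero]
        exact fun h => hne' (Subtype.ext h)
      refine hfe c.1 c.2 ?_
      obtain ⟨u, hu⟩ := hu
      rw [← one_smul A e, ← u.inv_mul, mul_smul, hu]
      exact Submodule.smul_mem _ _ h1
    have : Finite (ResidueField A) := by
      have h2 : ({c : ResidueField A | c ≠ 0} ∪ {0}).Finite := (Set.finite_coe_iff.mp hfin).union (Set.finite_singleton 0)
      refine Set.finite_univ_iff.mp (h2.subset fun c _ => ?_)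
      by_cases hc : c = 0
      · exact Or.inr hc
      · exact Or.inl hc
    exact not_finite (ResidueField A)

/-- An element of `m` outside the irrelevant associated primes. -/
theorem exists_ann_power [Infinite (ResidueField A)] {G : Type u} [CommRing G] [IsNoetherianRing G]
    (φ : A →+* G) (ι1 : maximalIdeal A →+ G) (hsmul : ∀ c a, ι1 (c • a) = φ c * ι1 a)
    (hm0 : ∀ c ∈ maximalIdeal A, ∀ a, φ c * ι1 a = 0) :
    ∃ (x : maximalIdeal A) (N : ℕ), ∀ y, ι1 x * y = 0 → ∀ z ∈ Ideal.span (Set.range ι1) ^ N, z * y = 0 := by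
  classical
  let Gp : Ideal G := Ideal.span (Set.range ι1)
  let Ps : Finset (Ideal G) := (associatedPrimes.finite G G).toFinset.filter fun P => ¬ Gp ≤ P
  let V : Ideal G → Submodule A (maximalIdeal A) := fun P =>
    { carrier := {a | ι1 a ∈ P}
      zero_mem' := by show ι1 0 ∈ P; rw [map_zero]; exact zero_mem P
      add_mem' := fun {a b} ha hb => by show ι1 (a + b) ∈ P; rw [map_add]; exact add_mem ha hb
      smul_mem' := fun c a ha => by
        show ι1 (c • a) ∈ P
        rw [hsmul]; exact P.mul_mem_left _ ha }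
  have hVne : ∀ P ∈ Ps, V P ≠ ⊤ := by
    intro P hP htop
    refine (Finset.mem_filter.mp hP).2 (Ideal.span_le.mpr ?_)
    rintro _ ⟨a, rfl⟩
    exact (htop ▸ Submodule.mem_top : a ∈ V P)
  have hVm : ∀ P ∈ Ps, maximalIdeal A • (⊤ : Submodule A (maximalIdeal A)) ≤ V P := by
    intro P _
    refine Submodule.smul_le.mpr fun c hc a _ => ?_
    show ι1 (c • a) ∈ P
    rw [hsmul, hm0 c hc a]; exact zero_mem P
  obtain ⟨x, hx⟩ := exists_notMem_of_infinite Ps V hVne hVm
  let K : Ideal G := LinearMap.ker (LinearMap.mulLeft G (ι1 x))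
  have hKann : Gp ≤ (Submodule.annihilator K).radical := by
    rw [Ideal.radical_eq_sInf]
    refine le_sInf fun Q ⟨hQ, hQp⟩ => ?_
    by_contra hGQ
    haveI := hQp
    obtain ⟨n, v, hv⟩ := Submodule.fg_iff_exists_fin_generating_family.mp (IsNoetherian.noetherian K)
    have hloc : ∀ y ∈ K, ∃ t : G, t ∉ Q ∧ t * y = 0 := by
      intro y hy
      by_contra hc
      simp only [not_exists, not_and] at hc
      have hy0 : (algebraMap G (Localization.AtPrime Q) y) ≠ 0 := fun h0 => by
        obtain ⟨⟨t, ht⟩, hty⟩ := (IsLocalization.map_eq_zero_iff Q.primeCompl _ y).mp h0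
        exact hc t ht hty
      obtain ⟨J, hJ, hJle⟩ := exists_le_isAssociatedPrime_of_isNoetherianRing (Localization.AtPrime Q) (algebraMap G (Localization.AtPrime Q) y) hy0
      let P : Ideal G := J.comap (algebraMap G (Localization.AtPrime Q))
      have hPass : P ∈ associatedPrimes G G := by
        have h1 : J ∈ associatedPrimes (Localization.AtPrime Q) (Localization.AtPrime Q) := hJ
        exact Module.associatedPrimes.comap_mem_associatedPrimes_of_mem_associatedPrimes_of_isLocalizedModule_of_fg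
          Q.primeCompl (Algebra.linearMap G (Localization.AtPrime Q)) J h1 (IsNoetherian.noetherian _)
      have hxJ : ι1 x ∈ P := hJle (by
        rw [Submodule.mem_colon_singleton, smul_eq_mul, ← map_mul, Submodule.mem_bot,
          show ι1 x * y = 0 from hy, map_zero])
      have hPQ : P ≤ Q := by
        have := IsLocalRing.le_maximalIdeal hJ.isPrime.ne_top
        intro z hz
        have h2 := this hz
        rwa [IsLocalization.AtPrime.to_map_mem_maximal_iff (Localization.AtPrime Q) Q] at h2
      have hmem : P ∈ Ps := Finset.mem_filter.mpr ⟨(Set.Finite.mem_toFinset _).mpr hPass, fun hle => hGQ (hle.trans hPQ)⟩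
      exact hx P hmem hxJ
    choose t ht ht0 using fun i : Fin n => hloc (v i) (hv ▸ Submodule.subset_span ⟨i, rfl⟩)
    have hprod : ∏ i, t i ∈ Submodule.annihilator K := by
      rw [Submodule.mem_annihilator, ← hv]
      intro y hy
      induction hy using Submodule.span_induction with
      | mem y hy =>
        obtain ⟨i, rfl⟩ := hy
        rw [smul_eq_mul, ← Finset.mul_prod_erase _ _ (Finset.mem_univ i), mul_comm (t i), mul_assoc, ht0, mul_zero]
      | zero => exact smul_zero _
      | add a b _ _ ha hb => rw [smul_add, ha, hb, add_zero]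
      | smul r a _ ha => rw [smul_comm, ha, smul_zero]
    obtain ⟨i, -, hi⟩ := Ideal.IsPrime.prod_mem_iff.mp (hQ hprod)
    exact ht i hi
  obtain ⟨N, hN⟩ := Ideal.exists_pow_le_of_le_radical_of_fg hKann (IsNoetherian.noetherian Gp)
  exact ⟨x, N, fun y hy z hz => Submodule.mem_annihilator.mp (hN hz) y hy⟩

/-- `exists_ann_power` without the quotient. -/
theorem exists_colon_power [Infinite (ResidueField A)] {R : Type u} [CommRing R] [IsNoetherianRing R]
    (𝔞 : Ideal R) (φ : A →+* R) (ι : maximalIdeal A →+ R) (hsmul : ∀ c a, ι (c • a) = φ c * ι a)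
    (hm0 : ∀ c ∈ maximalIdeal A, φ c ∈ 𝔞) :
    ∃ (x : maximalIdeal A) (N : ℕ), ∀ y, ι x * y ∈ 𝔞 → ∀ z ∈ Ideal.span (Set.range ι) ^ N, z * y ∈ 𝔞 := by
  let π := Ideal.Quotient.mk 𝔞
  obtain ⟨x, N, h⟩ := exists_ann_power (π.comp φ) (π.toAddMonoidHom.comp ι)
    (fun c a => by show π (ι (c • a)) = π (φ c) * π (ι a); rw [hsmul, map_mul])
    (fun c hc a => by show π (φ c) * π (ι a) = 0; rw [Ideal.Quotient.eq_zero_iff_mem.mpr (hm0 c hc), zero_mul])
  refine ⟨x, N, fun y hy z hz => Ideal.Quotient.eq_zero_iff_mem.mp ((map_mul π z y).trans (h (π y) ?_ (π z) ?_))⟩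
  · show π (ι x) * π y = 0
    rw [← map_mul, Ideal.Quotient.eq_zero_iff_mem]; exact hy
  · have e : Ideal.span (Set.range (π.toAddMonoidHom.comp ι)) = (Ideal.span (Set.range ι)).map π := by
      rw [Ideal.map_span, ← Set.range_comp]; rfl
    rw [e, ← Ideal.map_pow]
    exact Ideal.mem_map_of_mem _ hz

/-- A superficial element: multiplication is injective on high graded pieces. -/
theorem exists_superficial [IsNoetherianRing A] [Infinite (ResidueField A)] :
    ∃ x ∈ maximalIdeal A, ∃ k₀ : ℕ, ∀ k ≥ k₀, ∀ g ∈ maximalIdeal A ^ k,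
      x * g ∈ maximalIdeal A ^ (k + 2) → g ∈ maximalIdeal A ^ (k + 1) := by
  classical
  let m := maximalIdeal A
  let R := reesAlgebra m
  let 𝔞 : Ideal R := m.map (algebraMap A R)
  have h𝔞 : ∀ r ∈ 𝔞, ∀ i, (r : A[X]).coeff i ∈ m ^ (i + 1) := by
    intro r hr
    induction hr using Submodule.span_induction with
    | mem r hr =>
      obtain ⟨c, hc, rfl⟩ := hr
      intro i
      show (Polynomial.C c).coeff i ∈ _
      rcases i with _ | i
      · simpa using hc
      · simp
    | zero => intro i; simp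
    | add r s _ _ hr hs => intro i; rw [Subalgebra.coe_add, coeff_add]; exact add_mem (hr i) (hs i)
    | smul r s _ hs =>
      intro i
      rw [smul_eq_mul, Subalgebra.coe_mul, coeff_mul]
      refine sum_mem fun p hp => ?_
      have h1 := Ideal.mul_mem_mul ((mem_reesAlgebra_iff m (r : A[X])).mp r.2 p.1) (hs p.2)
      rwa [← pow_add, ← add_assoc, Finset.HasAntidiagonal.mem_antidiagonal.mp hp] at h1
  let mon : ∀ (i : ℕ) (c : A), c ∈ m ^ i → R := fun i c hc => ⟨monomial i c, reesAlgebra.monomial_mem.mpr hc⟩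
  have hmon0 : ∀ (i : ℕ) (c : A) (hc : c ∈ m ^ (i + 1)), mon i c (Ideal.pow_le_pow_right i.le_succ hc) ∈ 𝔞 := by
    intro i c hc
    have hc' : c ∈ m * m ^ i := by rwa [← pow_succ']
    obtain ⟨h, hh⟩ : ∃ h : c ∈ m ^ i, mon i c h ∈ 𝔞 := by
      refine Submodule.mul_induction_on hc' (fun u hu v hv => ⟨Ideal.mul_mem_left _ u hv, ?_⟩)
        (fun u v ⟨hu, hu'⟩ ⟨hv, hv'⟩ => ⟨add_mem hu hv, ?_⟩)
      · have e : mon i (u * v) (Ideal.mul_mem_left _ u hv) = algebraMap A R u * mon i v hv :=
          Subtype.ext (C_mul_monomial (R := A)).symm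
        rw [e]; exact Ideal.mul_mem_right _ _ (Ideal.mem_map_of_mem _ hu)
      · have e : mon i (u + v) (add_mem hu hv) = mon i u hu + mon i v hv := Subtype.ext (map_add _ u v)
        rw [e]; exact add_mem hu' hv'
    exact hh
  let ι1 : maximalIdeal A →+ R :=
    AddMonoidHom.mk' (fun a => mon 1 a (by rw [pow_one]; exact a.2))
      (fun a b => Subtype.ext (map_add (monomial 1) (a : A) (b : A)))
  let Gp : Ideal R := Ideal.span (Set.range ι1)
  obtain ⟨x, N, hxN⟩ := exists_colon_power 𝔞 (algebraMap A R) ι1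
    (fun c a => Subtype.ext (C_mul_monomial (R := A)).symm) (fun c hc => Ideal.mem_map_of_mem _ hc)
  let K : Ideal R := Submodule.comap (LinearMap.mulLeft R (ι1 x)) 𝔞
  refine ⟨x, x.2, ?_⟩
  obtain ⟨n, w, hw⟩ := Submodule.fg_iff_exists_fin_generating_family.mp (IsNoetherian.noetherian K)
  let D := Finset.univ.sup fun i : Fin n => ((w i : R) : A[X]).natDegree
  refine ⟨N + D + 1, fun k hk g hg hxg => ?_⟩
  -- elements of degree at least `N` lie in `Gp ^ N`
  have hpowG : ∀ (j : ℕ) (c : A) (hc : c ∈ m ^ j), mon j c hc ∈ Gp ^ j := by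
    intro j
    induction j with
    | zero => intro c hc; rw [pow_zero, Ideal.one_eq_top]; exact Submodule.mem_top
    | succ j ih =>
      intro c hc0
      have hc : c ∈ m * m ^ j := by rwa [← pow_succ']
      obtain ⟨h, hh⟩ : ∃ h : c ∈ m ^ (j + 1), mon (j + 1) c h ∈ Gp ^ (j + 1) := by
        refine Submodule.mul_induction_on hc (fun u hu v' hv' => ⟨(pow_succ' m j).ge (Ideal.mul_mem_mul hu hv'), ?_⟩)
          (fun u v' ⟨hu, hu'⟩ ⟨hv, hv'⟩ => ⟨add_mem hu hv, ?_⟩)
        · have e : mon (j + 1) (u * v') ((pow_succ' m j).ge (Ideal.mul_mem_mul hu hv')) = ι1 ⟨u, hu⟩ * mon j v' hv' :=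
            Subtype.ext (by show monomial (j + 1) (u * v') = monomial 1 u * monomial j v'; rw [monomial_mul_monomial, add_comm])
          rw [e, pow_succ']
          exact Ideal.mul_mem_mul (Ideal.subset_span ⟨_, rfl⟩) (ih v' hv')
        · have e : mon (j + 1) (u + v') (add_mem hu hv) = mon (j + 1) u hu + mon (j + 1) v' hv :=
            Subtype.ext (map_add _ u v')
          rw [e]; exact add_mem hu' hv'
      exact hh
  have hKg : mon k g hg ∈ K := by
    show ι1 x * mon k g hg ∈ 𝔞
    have e : ι1 x * mon k g hg = mon (k + 1) ((x : A) * g) (Ideal.pow_le_pow_right (Nat.le_succ _) hxg) :=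
      Subtype.ext (by show monomial 1 (x : A) * monomial k g = monomial (k + 1) ((x : A) * g); rw [monomial_mul_monomial, add_comm])
    rw [e]; exact hmon0 (k + 1) _ hxg
  rw [← hw, Submodule.mem_span_range_iff_exists_fun] at hKg
  obtain ⟨r, hr⟩ := hKg
  let low : R → R := fun p => ∑ j ∈ Finset.range N, mon j ((p : A[X]).coeff j) ((mem_reesAlgebra_iff m (p : A[X])).mp p.2 j)
  have hhigh : ∀ p : R, p - low p ∈ Gp ^ N := by
    intro p
    let F : ℕ → R := fun j => mon j ((p : A[X]).coeff j) ((mem_reesAlgebra_iff m (p : A[X])).mp p.2 j)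
    have e : p = ∑ j ∈ Finset.range (N + (p : A[X]).natDegree + 1), F j := by
      apply Subtype.ext
      rw [AddSubmonoidClass.coe_finset_sum]
      exact Polynomial.as_sum_range' (p : A[X]) _ (by omega)
    have h1 : p - low p = ∑ j ∈ Finset.Ico N (N + (p : A[X]).natDegree + 1), F j := by
      rw [Finset.sum_Ico_eq_sub _ (by omega)]
      show p - ∑ j ∈ Finset.range N, F j = _
      rw [← e]
    rw [h1]
    exact sum_mem fun j hj => Ideal.pow_le_pow_right (Finset.mem_Ico.mp hj).1 (hpowG j _ ((mem_reesAlgebra_iff m (p : A[X])).mp p.2 j))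
  have hdiff : mon k g hg - ∑ i, low (r i) * w i ∈ 𝔞 := by
    rw [← hr, ← Finset.sum_sub_distrib]
    refine sum_mem fun i _ => ?_
    rw [smul_eq_mul, ← sub_mul]
    exact hxN (w i) (hw ▸ Submodule.subset_span ⟨i, rfl⟩ : w i ∈ K) _ (hhigh (r i))
  have hco := h𝔞 _ hdiff k
  rw [Subalgebra.coe_sub, coeff_sub, AddSubmonoidClass.coe_finset_sum, finset_sum_coeff,
    Finset.sum_eq_zero (fun i _ => Polynomial.coeff_eq_zero_of_natDegree_lt ?_), sub_zero] at hco
  · rwa [show ((mon k g hg : R) : A[X]).coeff k = g from Polynomial.coeff_monomial_same k g] at hco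
  · rw [Subalgebra.coe_mul]
    refine lt_of_le_of_lt Polynomial.natDegree_mul_le ?_
    have hw' : ((w i : R) : A[X]).natDegree ≤ D := Finset.le_sup (f := fun i : Fin n => ((w i : R) : A[X]).natDegree) (Finset.mem_univ i)
    have hlow : ((low (r i) : R) : A[X]).natDegree ≤ N := by
      rw [AddSubmonoidClass.coe_finset_sum]
      exact Polynomial.natDegree_sum_le_of_forall_le _ _ fun j hj => (Polynomial.natDegree_monomial_le _).trans (Finset.mem_range.mp hj).le
    omega

end Groth.Agent.MultLib
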