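import Groth.Agent.MultLib.Reduction
import Groth.Agent.MultLib.Superficial
import Groth.Agent.MultLib.InfiniteField
import Groth.Agent.HK.Main
import Mathlib

/-! Lech's inequality, by induction along a superficial element. -/

set_option autoImplicit false

open Filter Topology IsLocalRing

namespace Groth.Agent.MultLib

universe u

/-- Real valued colength. -/
noncomputable def ell {A : Type u} [CommRing A] (J : Ideal A) : ℝ := ((Module.length A (A ⧸ J)).toNat : ℝ)

/-- `(J : x ^ k)`. -/
def colonPow {A : Type u} [CommRing A] (J : Ideal A) (x : A) (k : ℕ) : Ideal A :=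
  Submodule.comap (LinearMap.mulLeft A (x ^ k)) J

section

variable {A : Type u} [CommRing A]

theorem ell_nonneg (J : Ideal A) : 0 ≤ ell J := Nat.cast_nonneg _

theorem ell_top : ell (⊤ : Ideal A) = 0 := by
  have : Subsingleton (A ⧸ (⊤ : Ideal A)) := Ideal.Quotient.subsingleton_iff.mpr rfl
  simp [ell, Module.length_eq_zero]

theorem mem_colonPow {J : Ideal A} {x : A} {k : ℕ} {y : A} : y ∈ colonPow J x k ↔ x ^ k * y ∈ J := Iff.rfl

theorem le_colonPow (J : Ideal A) (x : A) (k : ℕ) : J ≤ colonPow J x k := fun _ hy => J.mul_mem_left _ hy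

theorem length_colon_split (J : Ideal A) (x : A) :
    Module.length A (A ⧸ J) = Module.length A (A ⧸ colonPow J x 1) + Module.length A (A ⧸ (J ⊔ Ideal.span {x})) := by
  let f : (A ⧸ colonPow J x 1) →ₗ[A] A ⧸ J :=
    Submodule.mapQ _ _ (LinearMap.mulLeft A (x ^ 1)) (fun y hy => hy)
  let g : (A ⧸ J) →ₗ[A] A ⧸ (J ⊔ Ideal.span {x}) := Submodule.factor le_sup_left
  refine Module.length_eq_add_of_exact f g ?_ (Submodule.factor_surjective _) ?_
  · rw [← LinearMap.ker_eq_bot, eq_bot_iff]
    intro z hz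
    obtain ⟨z, rfl⟩ := Submodule.Quotient.mk_surjective _ z
    rw [LinearMap.mem_ker, Submodule.mapQ_apply, Submodule.Quotient.mk_eq_zero] at hz
    exact (Submodule.Quotient.mk_eq_zero _).mpr hz
  · intro z
    obtain ⟨z, rfl⟩ := Submodule.Quotient.mk_surjective _ z
    show (Submodule.Quotient.mk z : A ⧸ (J ⊔ Ideal.span {x})) = 0 ↔ _
    rw [Submodule.Quotient.mk_eq_zero]
    constructor
    · intro hz
      obtain ⟨a, ha, b, hb, rfl⟩ := Submodule.mem_sup.mp hz
      obtain ⟨c, rfl⟩ := Ideal.mem_span_singleton'.mp hb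
      refine ⟨Submodule.Quotient.mk c, ?_⟩
      rw [Submodule.mapQ_apply, Submodule.Quotient.eq]
      show x ^ 1 * c - (a + c * x) ∈ J
      rw [show x ^ 1 * c - (a + c * x) = -a by ring]
      exact neg_mem ha
    · rintro ⟨w, hw⟩
      obtain ⟨w, rfl⟩ := Submodule.Quotient.mk_surjective _ w
      rw [Submodule.mapQ_apply, Submodule.Quotient.eq] at hw
      have : z = x ^ 1 * w - (x ^ 1 * w - z) := by ring
      rw [this]
      exact sub_mem (Submodule.mem_sup_right (Ideal.mem_span_singleton'.mpr ⟨w, by ring⟩)) (Submodule.mem_sup_left hw)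

/-- Colengths through a quotient map. -/
theorem ell_map_quotient (H J : Ideal A) : ell (J.map (Ideal.Quotient.mk H)) = ell (H ⊔ J) := by
  unfold ell
  rw [← Module.length_eq_of_surjective (S := A) (R := A ⧸ H) (M := (A ⧸ H) ⧸ J.map (Ideal.Quotient.mk H)) Ideal.Quotient.mk_surjective,
    ← (DoubleQuot.quotQuotEquivQuotSupₐ A H J).toLinearEquiv.length_eq]
  rfl

end

section

variable {A : Type u} [CommRing A] [IsNoetherianRing A] [IsLocalRing A]

theorem length_ne_top {J : Ideal A} (hJ : ∃ N : ℕ, maximalIdeal A ^ N ≤ J) : Module.length A (A ⧸ J) ≠ ⊤ := by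
  haveI := HK.isArtinianRing_quotient (A := A) hJ
  haveI : IsArtinian A (A ⧸ J) := isArtinian_of_surjective_algebraMap (Ideal.Quotient.mk_surjective (I := J))
  exact Module.length_ne_top

theorem ell_anti {J J' : Ideal A} (hJ : ∃ N : ℕ, maximalIdeal A ^ N ≤ J) (h : J ≤ J') : ell J' ≤ ell J := by
  unfold ell
  exact_mod_cast ENat.toNat_le_toNat (Module.length_le_of_surjective (Submodule.factor h) (Submodule.factor_surjective h)) (length_ne_top hJ)

theorem one_le_ell {J : Ideal A} (hJ : ∃ N : ℕ, maximalIdeal A ^ N ≤ J) (h : J ≠ ⊤) : 1 ≤ ell J := by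
  have : Nontrivial (A ⧸ J) := Ideal.Quotient.nontrivial_iff.mpr h
  have h0 : Module.length A (A ⧸ J) ≠ 0 := Module.length_pos.ne'
  have h1 : (Module.length A (A ⧸ J)).toNat ≠ 0 := fun hz => (ENat.toNat_eq_zero.mp hz).elim h0 (length_ne_top hJ)
  unfold ell
  exact_mod_cast Nat.one_le_iff_ne_zero.mpr h1

theorem ell_colon_split {J : Ideal A} (hJ : ∃ N : ℕ, maximalIdeal A ^ N ≤ J) (x : A) :
    ell J = ell (colonPow J x 1) + ell (J ⊔ Ideal.span {x}) := by
  obtain ⟨N, hN⟩ := hJ
  unfold ell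
  rw [length_colon_split J x, ENat.toNat_add (length_ne_top ⟨N, hN.trans (le_colonPow J x 1)⟩)
    (length_ne_top ⟨N, hN.trans le_sup_left⟩)]
  push_cast
  rfl

theorem ell_eq_sum {J : Ideal A} (hJ : ∃ N : ℕ, maximalIdeal A ^ N ≤ J) (x : A) (K : ℕ) :
    ell J = ∑ k ∈ Finset.range K, ell (colonPow J x k ⊔ Ideal.span {x}) + ell (colonPow J x K) := by
  induction K with
  | zero =>
    rw [Finset.sum_range_zero, zero_add]
    congr 1
    ext y
    simp [mem_colonPow]
  | succ K ih =>
    obtain ⟨N, hN⟩ := hJ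
    rw [ih, Finset.sum_range_succ, ell_colon_split ⟨N, hN.trans (le_colonPow J x K)⟩ x]
    rw [show colonPow (colonPow J x K) x 1 = colonPow J x (K + 1) by
      ext y; simp only [mem_colonPow]; rw [← mul_assoc, ← pow_add]]
    ring

end

/-- The derivative of a polynomial at top degree, as a limit. -/
theorem tendsto_diff_of_tendsto (P : Polynomial ℝ) (d : ℕ) (L : ℝ)
    (h : Tendsto (fun n : ℕ => P.eval (n : ℝ) / (n : ℝ) ^ (d + 1)) atTop (𝓝 L)) :
    Tendsto (fun n : ℕ => (P.eval ((n : ℝ) + 1) - P.eval (n : ℝ)) / ((n + 1 : ℕ) : ℝ) ^ d) atTop (𝓝 (((d : ℝ) + 1) * L)) := by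
  have hdeg : P.natDegree ≤ d + 1 := by
    by_contra hlt
    rw [not_le] at hlt
    have hP : P ≠ 0 := fun h0 => by rw [h0, Polynomial.natDegree_zero] at hlt; omega
    have h1 := (Polynomial.abs_div_tendsto_atTop_atTop_of_degree_gt P (Polynomial.X ^ (d + 1))
      (by rw [Polynomial.degree_X_pow, Polynomial.degree_eq_natDegree hP]; exact_mod_cast hlt)
      (pow_ne_zero _ Polynomial.X_ne_zero)).comp tendsto_natCast_atTop_atTop
    refine not_tendsto_atTop_of_tendsto_nhds h.abs (h1.congr fun n => ?_)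
    simp
  set a := P.coeff (d + 1)
  let P₁ := P - Polynomial.C a * Polynomial.X ^ (d + 1)
  have hdeg₁ : P₁.natDegree ≤ d := by
    refine Polynomial.natDegree_le_iff_coeff_eq_zero.mpr fun i hi => ?_
    simp only [P₁, Polynomial.coeff_sub, Polynomial.coeff_C_mul_X_pow]
    rcases eq_or_ne i (d + 1) with rfl | hne
    · simp [a]
    · rw [if_neg hne, sub_zero, Polynomial.coeff_eq_zero_of_natDegree_lt (by omega)]
  have heval : ∀ y : ℝ, P.eval y = a * y ^ (d + 1) + P₁.eval y := fun y => by simp [P₁]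
  have hL : L = a := by
    refine tendsto_nhds_unique h ?_
    have h1 := ((Polynomial.div_tendsto_zero_of_degree_lt P₁ (Polynomial.X ^ (d + 1))
      (by rw [Polynomial.degree_X_pow]; exact Polynomial.degree_le_natDegree.trans_lt (by exact_mod_cast Nat.lt_succ_of_le hdeg₁))).comp
        tendsto_natCast_atTop_atTop).const_add a
    rw [add_zero] at h1
    refine h1.congr' ?_
    filter_upwards [eventually_ge_atTop 1] with n hn
    have hn0 : (n : ℝ) ^ (d + 1) ≠ 0 := pow_ne_zero _ (Nat.cast_ne_zero.mpr (by omega))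
    simp only [Function.comp_apply, Polynomial.eval_pow, Polynomial.eval_X, heval (n : ℝ)]
    rw [add_div, mul_div_cancel_right₀ _ hn0]
  have h1 : Tendsto (fun n : ℕ => ((n : ℝ) + 1) / (n : ℝ)) atTop (𝓝 1) := by
    have h2 := (tendsto_natCast_div_add_atTop (1 : ℝ)).inv₀ one_ne_zero
    simpa [inv_div] using h2
  have hmain : Tendsto (fun n : ℕ => (P.eval ((n : ℝ) + 1) - P.eval (n : ℝ)) / (n : ℝ) ^ d) atTop (𝓝 (((d : ℝ) + 1) * L)) := by
    have h3 := tendsto_finsetSum (Finset.range (d + 1)) (fun i _ => h1.pow i)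
    simp only [one_pow, Finset.sum_const, Finset.card_range, nsmul_eq_mul, mul_one, Nat.cast_add, Nat.cast_one] at h3
    have h4 := (h3.const_mul a).add (tendsto_shift_sub_div P₁ hdeg₁ 1)
    rw [add_zero] at h4
    rw [hL, mul_comm]
    refine h4.congr' ?_
    filter_upwards [eventually_ge_atTop 1] with n hn
    have hn0 : (n : ℝ) ≠ 0 := Nat.cast_ne_zero.mpr (by omega)
    have hgeom : ∑ i ∈ Finset.range (d + 1), (((n : ℝ) + 1) / (n : ℝ)) ^ i = (((n : ℝ) + 1) ^ (d + 1) - (n : ℝ) ^ (d + 1)) / (n : ℝ) ^ d := by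
      rw [← geom_sum₂_mul ((n : ℝ) + 1) (n : ℝ) (d + 1), add_sub_cancel_left, mul_one, Finset.sum_div]
      refine Finset.sum_congr rfl fun i hi => ?_
      have hid : i ≤ d := Nat.lt_succ_iff.mp (Finset.mem_range.mp hi)
      rw [show d + 1 - 1 - i = d - i by omega, div_pow, eq_div_iff (pow_ne_zero _ hn0)]
      rw [div_mul_eq_mul_div, div_eq_iff (pow_ne_zero _ hn0), mul_assoc, ← pow_add, Nat.sub_add_cancel hid]
    rw [hgeom, heval, heval]
    field_simp
    ring
  have h5 := hmain.mul ((tendsto_natCast_div_add_atTop (1 : ℝ)).pow d)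
  rw [one_pow, mul_one] at h5
  refine h5.congr' ?_
  filter_upwards [eventually_ge_atTop 1] with n hn
  have hn0 : (n : ℝ) ≠ 0 := Nat.cast_ne_zero.mpr (by omega)
  push_cast
  rw [div_pow]
  field_simp

variable {A : Type u} [CommRing A] [IsNoetherianRing A] [IsLocalRing A]

theorem exists_ell_polynomial : ∃ P : Polynomial ℝ, ∀ᶠ n : ℕ in atTop, ell (maximalIdeal A ^ n) = P.eval (n : ℝ) := by
  haveI : IsArtinianRing (A ⧸ maximalIdeal A) := HK.isArtinianRing_quotient ⟨1, (pow_one _).le⟩
  obtain ⟨P, N, hP⟩ := HilbSam.exists_polynomial_hs (M := A) (maximalIdeal A)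
  refine ⟨P.map (algebraMap ℚ ℝ), eventually_atTop.mpr ⟨N, fun n hn => ?_⟩⟩
  have h1 := congrArg (algebraMap ℚ ℝ) (hP n hn)
  rw [map_natCast] at h1
  rw [← map_natCast (algebraMap ℚ ℝ) n, Polynomial.eval_map, Polynomial.eval₂_at_apply, ← h1]
  unfold ell HilbSam.hs
  rw [(Submodule.quotEquivOfEq (maximalIdeal A ^ n • ⊤ : Submodule A A) (maximalIdeal A ^ n) (by rw [smul_eq_mul, Ideal.mul_top])).length_eq]

/-- The statement proved by induction on `d`. -/
def LechBound (d : ℕ) (A : Type u) [CommRing A] [IsLocalRing A] : Prop :=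
  ∀ L : ℝ, Tendsto (fun n : ℕ => ell (maximalIdeal A ^ n) / (n : ℝ) ^ d) atTop (𝓝 L) →
    ∀ I : Ideal A, (∃ N : ℕ, maximalIdeal A ^ N ≤ I) → ∀ ε > (0 : ℝ),
      ∀ᶠ n : ℕ in atTop, ell (I ^ n) / (n : ℝ) ^ d ≤ d.factorial * L * ell I + ε

theorem lechBound_zero : LechBound 0 A := by
  intro L hL I ⟨N, hN⟩ ε hε
  simp only [pow_zero, div_one] at hL ⊢
  have hmono : Monotone fun n : ℕ => ell (maximalIdeal A ^ n) := fun a b hab =>
    ell_anti ⟨b, le_rfl⟩ (Ideal.pow_le_pow_right hab)
  have hb : ∀ n, ell (maximalIdeal A ^ n) ≤ L := hmono.ge_of_tendsto hL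
  have hL0 : 0 ≤ L := le_trans (ell_nonneg _) (hb 0)
  refine Eventually.of_forall fun n => ?_
  by_cases hI : I = ⊤
  · rw [hI, Ideal.top_pow, ell_top]; simp; linarith
  have h1 : ell (I ^ n) ≤ L := by
    refine le_trans (ell_anti ⟨N * n, le_rfl⟩ ?_) (hb (N * n))
    rw [pow_mul]; exact pow_le_pow_left' hN n
  have h2 := mul_le_mul_of_nonneg_left (one_le_ell ⟨N, hN⟩ hI) hL0
  simp only [Nat.factorial_zero, Nat.cast_one, one_mul]
  linarith

/-- The inductive step along a regular superficial element. -/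
theorem lechBound_step_regular {d : ℕ} {x : A} (hxm : x ∈ maximalIdeal A)
    (hsup : ∀ᶠ n : ℕ in atTop, colonPow (maximalIdeal A ^ (n + 1)) x 1 = maximalIdeal A ^ n)
    [IsLocalRing (A ⧸ Ideal.span {x})] (ih : LechBound d (A ⧸ Ideal.span {x})) : LechBound (d + 1) A := by
  intro L hL I hI ε hε
  let B := A ⧸ Ideal.span {x}
  let π : A →+* B := Ideal.Quotient.mk (Ideal.span {x})
  have hmax : (maximalIdeal A).map π = maximalIdeal B := map_maximalIdeal_of_surjective π Ideal.Quotient.mk_surjective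
  obtain ⟨N, hN⟩ := hI
  have hB : Tendsto (fun n : ℕ => ell (maximalIdeal B ^ n) / (n : ℝ) ^ d) atTop (𝓝 (((d : ℝ) + 1) * L)) := by
    obtain ⟨P, hP⟩ := exists_ell_polynomial (A := A)
    have hP' : Tendsto (fun n : ℕ => P.eval (n : ℝ) / (n : ℝ) ^ (d + 1)) atTop (𝓝 L) :=
      hL.congr' (hP.mono fun n hn => by rw [hn])
    rw [← tendsto_add_atTop_iff_nat 1]
    refine (tendsto_diff_of_tendsto P d L hP').congr' ?_
    filter_upwards [hP, (tendsto_add_atTop_nat 1).eventually hP, hsup] with n hn hn1 hs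
    have h1 := ell_colon_split (J := maximalIdeal A ^ (n + 1)) ⟨n + 1, le_rfl⟩ x
    rw [hs] at h1
    rw [← hmax, ← Ideal.map_pow, ell_map_quotient, sup_comm]
    push_cast at hn1
    rw [← hn, ← hn1, h1, add_sub_cancel_left]
  let J : ℕ → Ideal B := fun j => (colonPow I x j).map π
  have hJN : ∀ j, ∃ M : ℕ, maximalIdeal B ^ M ≤ J j := fun j => ⟨N, by
    rw [← hmax, ← Ideal.map_pow]; exact Ideal.map_mono (hN.trans (le_colonPow I x j))⟩
  have hxN : x ^ N ∈ I := hN (Ideal.pow_mem_pow hxm N)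
  have hsumI : ∑ j ∈ Finset.range N, ell (J j) = ell I := by
    rw [ell_eq_sum ⟨N, hN⟩ x N, show colonPow I x N = ⊤ from eq_top_iff.mpr fun y _ => I.mul_mem_right y hxN,
      ell_top, add_zero]
    refine Finset.sum_congr rfl fun j _ => ?_
    show ell ((colonPow I x j).map π) = _
    rw [ell_map_quotient, sup_comm]
  have hpow : ∀ (n j : ℕ), (colonPow I x j) ^ n ≤ colonPow (I ^ n) x (j * n) := by
    intro n j
    induction n with
    | zero => intro y _; simp [mem_colonPow]
    | succ n ihn =>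
      rw [pow_succ]
      refine Ideal.mul_le.mpr fun a ha b hb => ?_
      have h1 := Ideal.mul_mem_mul (mem_colonPow.mp (ihn ha)) (mem_colonPow.mp hb)
      rw [← pow_succ] at h1
      rw [mem_colonPow, show x ^ (j * (n + 1)) * (a * b) = x ^ (j * n) * a * (x ^ j * b) by ring]
      exact h1
  have hle : ∀ n : ℕ, 0 < n → ell (I ^ n) ≤ (n : ℝ) * ∑ j ∈ Finset.range N, ell (J j ^ n) := by
    intro n hn
    have hIn : maximalIdeal A ^ (N * n) ≤ I ^ n := by rw [pow_mul]; exact pow_le_pow_left' hN n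
    rw [ell_eq_sum ⟨_, hIn⟩ x (N * n), show colonPow (I ^ n) x (N * n) = ⊤ from eq_top_iff.mpr fun y _ =>
      (I ^ n).mul_mem_right y (by rw [pow_mul]; exact Ideal.pow_mem_pow hxN n), ell_top, add_zero]
    have hterm : ∀ k, ell (colonPow (I ^ n) x k ⊔ Ideal.span {x}) ≤ ell (J (k / n) ^ n) := by
      intro k
      show _ ≤ ell (((colonPow I x (k / n)).map π) ^ n)
      rw [← Ideal.map_pow, ell_map_quotient, sup_comm (Ideal.span {x})]
      refine ell_anti ⟨N * n, ?_⟩ (sup_le_sup_right ?_ _)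
      · refine le_sup_of_le_left ?_
        rw [pow_mul]
        exact pow_le_pow_left' (hN.trans (le_colonPow I x _)) n
      · refine (hpow n (k / n)).trans fun y hy => ?_
        obtain ⟨c, hc⟩ := Nat.exists_eq_add_of_le (Nat.div_mul_le_self k n)
        rw [mem_colonPow, hc, pow_add, mul_comm (x ^ _) (x ^ c), mul_assoc]
        exact Ideal.mul_mem_left _ _ hy
    refine (Finset.sum_le_sum fun k _ => hterm k).trans (le_of_eq ?_)
    have : ∀ (f : ℕ → ℝ) (M : ℕ), ∑ k ∈ Finset.range (M * n), f (k / n) = (n : ℝ) * ∑ j ∈ Finset.range M, f j := by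
      intro f M
      induction M with
      | zero => simp
      | succ M ihM =>
        rw [Nat.succ_mul, Finset.sum_range_add, ihM, Finset.sum_range_succ, mul_add]
        congr 1
        rw [Finset.sum_congr rfl (g := fun _ => f M) fun i hi => by
          rw [Nat.add_comm, Nat.add_mul_div_right _ _ hn, Nat.div_eq_of_lt (Finset.mem_range.mp hi), zero_add],
          Finset.sum_const, Finset.card_range, nsmul_eq_mul]
    exact this (fun j => ell (J j ^ n)) N
  have hev : ∀ᶠ n : ℕ in atTop, ∀ j ∈ Finset.range N,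
      ell (J j ^ n) / (n : ℝ) ^ d ≤ d.factorial * (((d : ℝ) + 1) * L) * ell (J j) + ε / (N + 1) :=
    (Finset.eventually_all _).mpr fun j _ => ih _ hB (J j) (hJN j) _ (by positivity)
  filter_upwards [hev, eventually_ge_atTop 1] with n hn hn1
  have hn0 : (0 : ℝ) < n := by exact_mod_cast hn1
  calc ell (I ^ n) / (n : ℝ) ^ (d + 1)
      ≤ ((n : ℝ) * ∑ j ∈ Finset.range N, ell (J j ^ n)) / (n : ℝ) ^ (d + 1) :=
        div_le_div_of_nonneg_right (hle n hn1) (by positivity)
    _ = ∑ j ∈ Finset.range N, ell (J j ^ n) / (n : ℝ) ^ d := by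
        rw [← Finset.sum_div, pow_succ]; field_simp
    _ ≤ ∑ j ∈ Finset.range N, (d.factorial * (((d : ℝ) + 1) * L) * ell (J j) + ε / (N + 1)) := Finset.sum_le_sum hn
    _ ≤ _ := by
        rw [Finset.sum_add_distrib, ← Finset.mul_sum, hsumI, Finset.sum_const, Finset.card_range, nsmul_eq_mul,
          Nat.factorial_succ]
        push_cast
        have h1 : (N : ℝ) * (ε / (N + 1)) ≤ ε := by
          rw [← mul_div_assoc, div_le_iff₀ (by positivity)]; nlinarith
        nlinarith

/-- Lech's bound in every degree, for infinite residue fields. -/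
theorem lechBound : ∀ (d : ℕ) (A : Type u) [CommRing A] [IsNoetherianRing A] [IsLocalRing A]
    [Infinite (ResidueField A)], LechBound d A := by
  intro d
  induction d with
  | zero => intro A _ _ _ _; exact lechBound_zero
  | succ d ih =>
    intro A _ _ _ _ L hL I hI ε hε
    obtain ⟨x, hxm, k₀, hk₀⟩ := exists_superficial (A := A)
    let m := maximalIdeal A
    have hinj : ∀ (j : ℕ) (g : A), g ∈ m ^ k₀ → x ^ j * g = 0 → g = 0 := by
      intro j
      induction j with
      | zero => intro g _ h; simpa using h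
      | succ j ihj =>
        intro g hg h
        rw [pow_succ', mul_assoc] at h
        have hall : ∀ i, x ^ j * g ∈ m ^ (k₀ + i) := by
          intro i
          induction i with
          | zero => exact Ideal.mul_mem_left _ _ hg
          | succ i ihi => exact hk₀ (k₀ + i) (by omega) _ ihi (by rw [h]; exact zero_mem _)
        refine ihj g hg ?_
        rw [← Ideal.mem_bot, ← Ideal.iInf_pow_eq_bot_of_isLocalRing m (maximalIdeal.isMaximal A).ne_top, Submodule.mem_iInf]
        exact fun i => Ideal.pow_le_pow_right (by omega) (hall i)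
    let H : Ideal A := colonPow ⊥ x k₀
    have hH : ∀ g ∈ H, g ∈ m ^ k₀ → g = 0 := fun g hg hg' => hinj k₀ g hg' hg
    let C := ell (m ^ k₀)
    have hCz : Tendsto (fun n : ℕ => C / (n : ℝ) ^ (d + 1)) atTop (𝓝 0) :=
      tendsto_const_nhds.div_atTop ((tendsto_pow_atTop d.succ_ne_zero).comp tendsto_natCast_atTop_atTop)
    have hL0 : 0 ≤ L := ge_of_tendsto' hL fun n => div_nonneg (ell_nonneg _) (by positivity)
    have hbound : ∀ J : Ideal A, (∃ M : ℕ, m ^ M ≤ J) → ell J ≤ ell (H ⊔ J) + C := by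
      rintro J ⟨M, hM⟩
      let f : H →ₗ[A] A ⧸ J := (Submodule.mkQ J).comp H.subtype
      let g : (A ⧸ J) →ₗ[A] A ⧸ (H ⊔ J) := Submodule.factor le_sup_right
      have hex : Function.Exact (LinearMap.range f).subtype g := by
        intro z
        obtain ⟨z, rfl⟩ := Submodule.Quotient.mk_surjective _ z
        show (Submodule.Quotient.mk z : A ⧸ (H ⊔ J)) = 0 ↔ _
        rw [Submodule.Quotient.mk_eq_zero]
        constructor
        · intro hz
          obtain ⟨a, ha, b, hb, rfl⟩ := Submodule.mem_sup.mp hz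
          exact ⟨⟨_, ⟨a, ha⟩, rfl⟩, ((Submodule.Quotient.eq J).mpr (by simpa using hb)).symm⟩
        · rintro ⟨⟨w, ⟨a, ha⟩, rfl⟩, hw⟩
          have h1 : a - z ∈ J := (Submodule.Quotient.eq J).mp hw
          have h2 : z = a - (a - z) := by ring
          rw [h2]; exact sub_mem (Submodule.mem_sup_left ha) (Submodule.mem_sup_right h1)
      have h1 := Module.length_eq_add_of_exact _ g Subtype.val_injective (Submodule.factor_surjective _) hex
      have hHinj : Function.Injective ((Submodule.mkQ (m ^ k₀)).comp H.subtype) :=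
        (injective_iff_map_eq_zero _).mpr fun h hh => Subtype.ext (hH _ h.2 ((Submodule.Quotient.mk_eq_zero (m ^ k₀)).mp hh))
      have h2 : Module.length A (LinearMap.range f) ≤ Module.length A (A ⧸ m ^ k₀) :=
        (Module.length_le_of_surjective f.rangeRestrict f.surjective_rangeRestrict).trans (Module.length_le_of_injective _ hHinj)
      have h3 : Module.length A (A ⧸ J) ≤ Module.length A (A ⧸ m ^ k₀) + Module.length A (A ⧸ (H ⊔ J)) :=
        h1.le.trans (add_le_add_left h2 _)
      have hne := length_ne_top (A := A) (J := m ^ k₀) ⟨k₀, le_rfl⟩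
      have hne' := length_ne_top (A := A) (J := H ⊔ J) ⟨M, hM.trans le_sup_right⟩
      have h4 := ENat.toNat_le_toNat h3 (WithTop.add_ne_top.mpr ⟨hne, hne'⟩)
      rw [ENat.toNat_add hne hne'] at h4
      rw [add_comm]
      simp only [C, ell]
      exact_mod_cast h4
    obtain ⟨N, hN⟩ := hI
    have hIn : ∀ n, m ^ (N * n) ≤ I ^ n := fun n => by rw [pow_mul]; exact pow_le_pow_left' hN n
    by_cases hHtop : H = ⊤
    · have hev : ∀ᶠ n : ℕ in atTop, C / (n : ℝ) ^ (d + 1) < ε := hCz.eventually (gt_mem_nhds hε)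
      filter_upwards [hev] with n hn
      have h1 := hbound (I ^ n) ⟨_, hIn n⟩
      rw [hHtop, top_sup_eq, ell_top, zero_add] at h1
      have h2 : 0 ≤ ((d + 1).factorial : ℝ) * L * ell I := mul_nonneg (mul_nonneg (Nat.cast_nonneg _) hL0) (ell_nonneg _)
      have h3 : ell (I ^ n) / (n : ℝ) ^ (d + 1) ≤ C / (n : ℝ) ^ (d + 1) := div_le_div_of_nonneg_right h1 (by positivity)
      linarith
    let B := A ⧸ H
    let π : A →+* B := Ideal.Quotient.mk H
    haveI : Nontrivial B := Ideal.Quotient.nontrivial_iff.mpr hHtop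
    haveI : IsLocalRing B := IsLocalRing.of_surjective' π Ideal.Quotient.mk_surjective
    haveI : IsLocalHom π := IsLocalHom.of_surjective π Ideal.Quotient.mk_surjective
    haveI : Infinite (ResidueField B) := Infinite.of_injective (ResidueField.map π) (RingHom.injective _)
    have hmB : m.map π = maximalIdeal B := map_maximalIdeal_of_surjective π Ideal.Quotient.mk_surjective
    have hxB : π x ∈ maximalIdeal B := hmB ▸ Ideal.mem_map_of_mem π hxm
    have hreg : ∀ b : B, π x * b = 0 → b = 0 := by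
      intro b hb
      obtain ⟨b, rfl⟩ := Ideal.Quotient.mk_surjective b
      rw [← map_mul, Ideal.Quotient.eq_zero_iff_mem, mem_colonPow, Ideal.mem_bot, mul_left_comm] at hb
      rw [Ideal.Quotient.eq_zero_iff_mem, mem_colonPow, Ideal.mem_bot]
      exact hinj 1 _ (Ideal.mul_mem_right _ _ (Ideal.pow_mem_pow hxm k₀)) (by rw [pow_one]; exact hb)
    have hsup : ∀ᶠ n : ℕ in atTop, colonPow (maximalIdeal B ^ (n + 1)) (π x) 1 = maximalIdeal B ^ n := by
      obtain ⟨c, hc⟩ := (maximalIdeal B).exists_pow_inf_eq_pow_smul (Ideal.span {π x} : Submodule B B)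
      filter_upwards [eventually_ge_atTop (k₀ + c)] with n hn
      refine le_antisymm (fun b hb => ?_) (fun b hb => ?_)
      swap
      · rw [mem_colonPow, pow_one, pow_succ']; exact Ideal.mul_mem_mul hxB hb
      rw [mem_colonPow, pow_one] at hb
      have h1 : π x * b ∈ maximalIdeal B ^ (n + 1) • (⊤ : Submodule B B) ⊓ (Ideal.span {π x} : Submodule B B) :=
        ⟨by rw [smul_eq_mul, Ideal.mul_top]; exact hb, Ideal.mem_span_singleton'.mpr ⟨b, mul_comm _ _⟩⟩
      rw [hc (n + 1) (by omega)] at h1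
      have h2 : π x * b ∈ maximalIdeal B ^ (n + 1 - c) * Ideal.span {π x} := by
        rw [← smul_eq_mul]; exact Submodule.smul_mono le_rfl inf_le_right h1
      obtain ⟨v, hv, hvb⟩ := Ideal.mem_mul_span_singleton.mp h2
      have hbv : b = v := sub_eq_zero.mp (hreg _ (by rw [mul_sub, ← hvb, mul_comm v, sub_self]))
      subst hbv
      rw [← hmB, ← Ideal.map_pow] at hv hb ⊢
      obtain ⟨w, hw, rfl⟩ := (Ideal.mem_map_iff_of_surjective π Ideal.Quotient.mk_surjective).mp hv
      obtain ⟨u, hu, hu'⟩ := (Ideal.mem_map_iff_of_surjective π Ideal.Quotient.mk_surjective).mp hb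
      have hxw : x * w = u := by
        have h3 : x * w - u ∈ H := by
          rw [← Ideal.Quotient.eq_zero_iff_mem]
          show π _ = 0
          rw [map_sub, map_mul, hu', sub_self]
        exact sub_eq_zero.mp (hH _ h3 (sub_mem (Ideal.mul_mem_left _ _ (Ideal.pow_le_pow_right (by omega) hw))
          (Ideal.pow_le_pow_right (by omega) hu)))
      refine Ideal.mem_map_of_mem π ?_
      suffices ∀ i, n + 1 - c + i ≤ n → w ∈ m ^ (n + 1 - c + i) by
        rcases c.eq_zero_or_pos with hc0 | hc0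
        · exact Ideal.pow_le_pow_right (by omega) hw
        · have h4 := this (c - 1) (by omega)
          exact Ideal.pow_le_pow_right (by omega) h4
      intro i
      induction i with
      | zero => intro _; exact hw
      | succ i ihi =>
        intro hi
        have h5 : x * w ∈ m ^ (n + 1 - c + i + 2) := hxw ▸ Ideal.pow_le_pow_right (by omega) hu
        exact hk₀ (n + 1 - c + i) (by omega) w (ihi (by omega)) h5
    haveI : Nontrivial (B ⧸ Ideal.span {π x}) := Ideal.Quotient.nontrivial_iff.mpr fun htop =>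
      (maximalIdeal.isMaximal B).ne_top (eq_top_iff.mpr (htop ▸ (Ideal.span_singleton_le_iff_mem _).mpr hxB))
    haveI : IsLocalRing (B ⧸ Ideal.span {π x}) := IsLocalRing.of_surjective' (Ideal.Quotient.mk _) Ideal.Quotient.mk_surjective
    haveI : IsLocalHom (Ideal.Quotient.mk (Ideal.span {π x})) := IsLocalHom.of_surjective _ Ideal.Quotient.mk_surjective
    haveI : Infinite (ResidueField (B ⧸ Ideal.span {π x})) :=
      Infinite.of_injective (ResidueField.map (Ideal.Quotient.mk (Ideal.span {π x}))) (RingHom.injective _)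
    have hLB : Tendsto (fun n : ℕ => ell (maximalIdeal B ^ n) / (n : ℝ) ^ (d + 1)) atTop (𝓝 L) := by
      refine tendsto_of_tendsto_of_tendsto_of_le_of_le (g := fun n : ℕ => ell (m ^ n) / (n : ℝ) ^ (d + 1) - C / (n : ℝ) ^ (d + 1))
        (by simpa using hL.sub hCz) hL (fun n => ?_) (fun n => ?_)
      · show _ ≤ ell (maximalIdeal B ^ n) / _
        rw [← hmB, ← Ideal.map_pow, ell_map_quotient]
        simp only
        rw [← sub_div]
        exact div_le_div_of_nonneg_right (by linarith [hbound (m ^ n) ⟨n, le_rfl⟩]) (by positivity)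
      · show ell (maximalIdeal B ^ n) / _ ≤ _
        rw [← hmB, ← Ideal.map_pow, ell_map_quotient]
        exact div_le_div_of_nonneg_right (ell_anti ⟨n, le_rfl⟩ le_sup_right) (by positivity)
    have hstep := lechBound_step_regular hxB hsup (ih (B ⧸ Ideal.span {π x})) L hLB (I.map π)
      ⟨N, by rw [← hmB, ← Ideal.map_pow]; exact Ideal.map_mono hN⟩ (ε / 2) (half_pos hε)
    filter_upwards [hstep, hCz.eventually (gt_mem_nhds (half_pos hε))] with n hn hn'
    rw [← Ideal.map_pow, ell_map_quotient, ell_map_quotient] at hn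
    have h1 : ell (I ^ n) / (n : ℝ) ^ (d + 1) ≤ ell (H ⊔ I ^ n) / (n : ℝ) ^ (d + 1) + C / (n : ℝ) ^ (d + 1) := by
      rw [← add_div]; exact div_le_div_of_nonneg_right (hbound _ ⟨_, hIn n⟩) (by positivity)
    have h2 : ((d + 1).factorial : ℝ) * L * ell (H ⊔ I) ≤ ((d + 1).factorial : ℝ) * L * ell I :=
      mul_le_mul_of_nonneg_left (ell_anti ⟨N, hN⟩ le_sup_right) (mul_nonneg (Nat.cast_nonneg _) hL0)
    linarith

end Groth.Agent.MultLib
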